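import Mathlib

/-!
Length estimates for quotients of a Noetherian local ring by powers.
-/

namespace Groth.Agent.SopLength

universe u

open IsLocalRing

theorem length_mono {R : Type u} [CommRing R] {I J : Ideal R} (h : I ≤ J) :
    Module.length R (R ⧸ J) ≤ Module.length R (R ⧸ I) := by
  refine Module.length_le_of_surjective
    (Submodule.mapQ I J (LinearMap.id : R →ₗ[R] R) h) fun x => ?_
  obtain ⟨x, rfl⟩ := Submodule.Quotient.mk_surjective _ x
  exact ⟨Submodule.Quotient.mk x, rfl⟩

theorem exists_prime_quotient_dim {R : Type u} [CommRing R] {n : ℕ} (h : ringKrullDim R = n) :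
    ∃ (p : Ideal R), p.IsPrime ∧ ringKrullDim (R ⧸ p) = n := by
  obtain ⟨s, hs⟩ := Order.le_krullDim_iff.1 (le_of_eq h.symm)
  refine ⟨s.head.asIdeal, s.head.2, le_antisymm (h ▸ ringKrullDim_quotient_le _) ?_⟩
  rw [ringKrullDim_quotient]
  have hmem : ∀ i, s i ∈ PrimeSpectrum.zeroLocus (R := R) (s.head.asIdeal : Set R) := fun i =>
    (PrimeSpectrum.mem_zeroLocus _ _).2 (s.monotone (Fin.zero_le i))
  let s' : LTSeries (PrimeSpectrum.zeroLocus (R := R) (s.head.asIdeal : Set R)) :=
    { length := s.length
      toFun := fun i => ⟨s i, hmem i⟩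
      step := fun i => s.step i }
  rw [← hs]
  exact Order.LTSeries.length_le_krullDim s'

theorem isMaximal_map_maximalIdeal {R : Type u} [CommRing R] [IsLocalRing R] {I : Ideal R}
    (hI : I ≤ maximalIdeal R) : ((maximalIdeal R).map (Ideal.Quotient.mk I)).IsMaximal := by
  refine (Ideal.map_eq_top_or_isMaximal_of_surjective _ Ideal.Quotient.mk_surjective
    (maximalIdeal.isMaximal R)).resolve_left fun h => (maximalIdeal.isMaximal R).ne_top ?_
  have h1 := congrArg (Ideal.comap (Ideal.Quotient.mk I)) h
  rw [Ideal.comap_map_of_surjective' _ Ideal.Quotient.mk_surjective, Ideal.mk_ker,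
    sup_eq_left.2 hI, Ideal.comap_top] at h1
  exact h1

theorem length_quotient_pow_quotient {R : Type u} [CommRing R] [IsLocalRing R] (I : Ideal R)
    [IsLocalRing (R ⧸ I)] (t : ℕ) :
    Module.length (R ⧸ I) ((R ⧸ I) ⧸ maximalIdeal (R ⧸ I) ^ t) =
      Module.length R (R ⧸ (maximalIdeal R ^ t ⊔ I)) := by
  rw [← Module.length_eq_of_surjective (S := R) Ideal.Quotient.mk_surjective]
  let φ : R →ₗ[R] (R ⧸ I) ⧸ maximalIdeal (R ⧸ I) ^ t :=
    (Algebra.linearMap R ((R ⧸ I) ⧸ maximalIdeal (R ⧸ I) ^ t))
  have hφ : Function.Surjective φ := fun x => by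
    obtain ⟨x, rfl⟩ := Ideal.Quotient.mk_surjective x
    obtain ⟨x, rfl⟩ := Ideal.Quotient.mk_surjective x
    exact ⟨x, rfl⟩
  have hk : LinearMap.ker φ = maximalIdeal R ^ t ⊔ I := by
    ext r
    have hmap : (maximalIdeal R).map (Ideal.Quotient.mk I) = maximalIdeal (R ⧸ I) :=
      IsLocalRing.eq_maximalIdeal (isMaximal_map_maximalIdeal
        (IsLocalRing.le_maximalIdeal (Ideal.Quotient.nontrivial_iff.1 inferInstance)))
    rw [LinearMap.mem_ker]
    show Ideal.Quotient.mk _ (Ideal.Quotient.mk I r) = 0 ↔ _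
    rw [Ideal.Quotient.eq_zero_iff_mem, ← hmap, ← Ideal.map_pow, ← Ideal.mem_comap,
      Ideal.comap_map_of_surjective' _ Ideal.Quotient.mk_surjective, Ideal.mk_ker]
  rw [← (LinearMap.quotKerEquivOfSurjective φ hφ).length_eq,
    (Submodule.quotEquivOfEq _ _ hk).length_eq]

/-- The colon of a power of the maximal ideal by a nonzero element of a domain. -/
theorem exists_pow_length_step {R : Type u} [CommRing R] [IsNoetherianRing R] [IsLocalRing R]
    [IsDomain R] {x : R} (hx : x ≠ 0) :
    ∃ c : ℕ, 0 < c ∧ ∀ t, Module.length R (R ⧸ maximalIdeal R ^ t) +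
      Module.length R (R ⧸ (maximalIdeal R ^ (t + c) ⊔ Ideal.span {x})) ≤
        Module.length R (R ⧸ maximalIdeal R ^ (t + c)) := by
  obtain ⟨c, hc⟩ := Ideal.exists_pow_inf_eq_pow_smul (maximalIdeal R) (M := R) (Ideal.span {x})
  refine ⟨c + 1, Nat.succ_pos c, fun t => ?_⟩
  set m := maximalIdeal R
  let μ : R →ₗ[R] R ⧸ m ^ (t + (c + 1)) :=
    Submodule.mkQ (m ^ (t + (c + 1))) ∘ₗ LinearMap.mulLeft R x
  have hker : LinearMap.ker μ ≤ m ^ t := by
    intro y hy
    have h1 : x * y ∈ m ^ (t + (c + 1)) := by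
      rw [LinearMap.mem_ker, LinearMap.comp_apply, Submodule.mkQ_apply,
        Submodule.Quotient.mk_eq_zero] at hy
      exact hy
    have h2 : x * y ∈ m ^ (t + (c + 1)) • (⊤ : Submodule R R) ⊓ Ideal.span {x} :=
      ⟨by rw [smul_eq_mul, Ideal.mul_top]; exact h1,
        Ideal.mem_span_singleton.2 (dvd_mul_right x y)⟩
    rw [hc _ (by omega)] at h2
    have h3 : x * y ∈ m ^ (t + (c + 1) - c) * Ideal.span {x} :=
      Submodule.smul_mono le_rfl inf_le_right h2
    obtain ⟨z, hz, hzy⟩ := Ideal.mem_mul_span_singleton.1 h3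
    rw [mul_comm] at hzy
    exact Ideal.pow_le_pow_right (by omega) (mul_left_cancel₀ hx hzy ▸ hz)
  have h1 : Module.length R (R ⧸ m ^ t) ≤ Module.length R (LinearMap.range μ) := by
    rw [← μ.quotKerEquivRange.length_eq]
    exact length_mono hker
  have hle : m ^ (t + (c + 1)) ≤ m ^ (t + (c + 1)) ⊔ Ideal.span {x} := le_sup_left
  let ν : (R ⧸ m ^ (t + (c + 1))) →ₗ[R] R ⧸ (m ^ (t + (c + 1)) ⊔ Ideal.span {x}) :=
    Submodule.factor hle
  have hν : Function.Surjective ν := Submodule.factor_surjective hle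
  have hex : Function.Exact (LinearMap.range μ).subtype ν := by
    rw [LinearMap.exact_iff, Submodule.range_subtype]
    ext q
    obtain ⟨q, rfl⟩ := Submodule.Quotient.mk_surjective _ q
    rw [LinearMap.mem_ker]
    show Submodule.Quotient.mk q = 0 ↔ _
    rw [Submodule.Quotient.mk_eq_zero, Submodule.mem_sup]
    constructor
    · rintro ⟨a, ha, b, hb, rfl⟩
      obtain ⟨z, rfl⟩ := Ideal.mem_span_singleton.1 hb
      refine ⟨z, (Submodule.Quotient.eq _).2 ?_⟩
      show x * z - (a + x * z) ∈ _
      rw [sub_add_cancel_right]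
      exact neg_mem ha
    · rintro ⟨z, hz⟩
      have h4 : x * z - q ∈ m ^ (t + (c + 1)) := (Submodule.Quotient.eq _).1 hz
      exact ⟨-(x * z - q), neg_mem h4, x * z, Ideal.mem_span_singleton.2 (dvd_mul_right x z),
        by ring⟩
  rw [Module.length_eq_add_of_exact (LinearMap.range μ).subtype ν
    (Submodule.injective_subtype _) hν hex]
  exact add_le_add h1 le_rfl

/-- Lower bound for the Hilbert–Samuel function. -/
theorem exists_pow_le_length (n : ℕ) : ∀ (R : Type u) [CommRing R] [IsNoetherianRing R]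
    [IsLocalRing R], ringKrullDim R = n →
      ∃ C : ℕ, ∀ t : ℕ, 0 < t →
        ((t ^ n : ℕ) : ℕ∞) ≤ C * Module.length R (R ⧸ maximalIdeal R ^ t) := by
  have hpos : ∀ (R : Type u) [CommRing R] [IsLocalRing R] (t : ℕ), 0 < t →
      (1 : ℕ∞) ≤ Module.length R (R ⧸ maximalIdeal R ^ t) := by
    intro R _ _ t ht
    rw [Order.one_le_iff_ne_zero, ne_eq, Module.length_eq_zero_iff,
      Submodule.Quotient.subsingleton_iff]
    intro htop
    exact (maximalIdeal.isMaximal R).ne_top
      (eq_top_iff.2 (htop.ge.trans (Ideal.pow_le_self ht.ne')))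
  induction n with
  | zero => exact fun R _ _ _ _ => ⟨1, fun t ht => by simpa using hpos R t ht⟩
  | succ n ih =>
    suffices hdom : ∀ (R : Type u) [CommRing R] [IsNoetherianRing R] [IsLocalRing R] [IsDomain R],
        ringKrullDim R = (n + 1 : ℕ) → ∃ C : ℕ, ∀ t : ℕ, 0 < t →
          ((t ^ (n + 1) : ℕ) : ℕ∞) ≤ C * Module.length R (R ⧸ maximalIdeal R ^ t) by
      intro R _ _ _ hR
      obtain ⟨p, hp, hdim⟩ := exists_prime_quotient_dim hR
      have : Nontrivial (R ⧸ p) := Ideal.Quotient.nontrivial_iff.2 hp.ne_top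
      have : IsLocalRing (R ⧸ p) :=
        IsLocalRing.of_surjective' (Ideal.Quotient.mk p) Ideal.Quotient.mk_surjective
      obtain ⟨C, hC⟩ := hdom (R ⧸ p) hdim
      refine ⟨C, fun t ht => (hC t ht).trans (mul_le_mul_right ?_ _)⟩
      rw [length_quotient_pow_quotient]
      exact length_mono le_sup_left
    intro R _ _ _ _ hR
    obtain ⟨x, hxm, hx⟩ : ∃ x ∈ maximalIdeal R, x ≠ 0 := by
      refine Submodule.exists_mem_ne_zero_of_ne_bot fun h => ?_
      have hfield : IsField R := IsLocalRing.isField_iff_maximalIdeal_eq.2 h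
      rw [ringKrullDim_eq_zero_of_isField hfield] at hR
      norm_cast at hR
    have hne : Ideal.span {x} ≠ ⊤ := fun h => (maximalIdeal.isMaximal R).ne_top
      (eq_top_iff.2 (h.ge.trans ((Ideal.span_singleton_le_iff_mem _).2 hxm)))
    have : Nontrivial (R ⧸ Ideal.span {x}) := Ideal.Quotient.nontrivial_iff.2 hne
    have : IsLocalRing (R ⧸ Ideal.span {x}) :=
      IsLocalRing.of_surjective' (Ideal.Quotient.mk _) Ideal.Quotient.mk_surjective
    have hdim : ringKrullDim (R ⧸ Ideal.span {x}) = n := by
      have h1 := ringKrullDim_quotient_span_singleton_succ_eq_ringKrullDim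
        (IsSMulRegular.of_ne_zero hx) hxm
      rw [hR, Nat.cast_succ] at h1
      revert h1
      generalize ringKrullDim (R ⧸ Ideal.span {x}) = d
      intro h1
      induction d using WithBot.recBotCoe with
      | bot => simp at h1; exact (WithBot.bot_ne_coe h1).elim
      | coe a =>
        induction a using ENat.recTopCoe with
        | top =>
          exfalso
          rw [← WithBot.coe_one, ← WithBot.coe_add, top_add, ← WithBot.coe_natCast,
            ← WithBot.coe_add, WithBot.coe_inj] at h1
          exact ENat.natCast_ne_top (n + 1) h1.symm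
        | coe b =>
          norm_cast at h1 ⊢
          omega
    obtain ⟨C, hC⟩ := ih (R ⧸ Ideal.span {x}) hdim
    obtain ⟨c, hc0, hc⟩ := exists_pow_length_step hx
    set m := maximalIdeal R
    have hC' : ∀ t : ℕ, 0 < t →
        ((t ^ n : ℕ) : ℕ∞) ≤ C * Module.length R (R ⧸ (m ^ t ⊔ Ideal.span {x})) := fun t ht => by
      have := hC t ht
      rwa [length_quotient_pow_quotient] at this
    have iter : ∀ j t : ℕ, (j : ℕ∞) * Module.length R (R ⧸ (m ^ t ⊔ Ideal.span {x})) ≤
        Module.length R (R ⧸ m ^ (t + j * c)) := by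
      intro j
      induction j with
      | zero => intro t; simp
      | succ j ihj =>
        intro t
        rw [Nat.cast_succ, add_mul, one_mul, show t + (j + 1) * c = t + j * c + c by ring]
        exact (add_le_add (ihj t) (length_mono (sup_le_sup_right
          (Ideal.pow_le_pow_right (by omega)) _))).trans (hc (t + j * c))
    refine ⟨(2 * c) ^ (n + 1) + 4 * c * 2 ^ n * C, fun T hT => ?_⟩
    by_cases hsmall : T < 2 * c
    · calc ((T ^ (n + 1) : ℕ) : ℕ∞) ≤ (((2 * c) ^ (n + 1) + 4 * c * 2 ^ n * C : ℕ) : ℕ∞) * 1 := by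
            rw [mul_one, Nat.cast_le]
            exact le_add_right (Nat.pow_le_pow_left hsmall.le _)
        _ ≤ _ := mul_le_mul' le_rfl (hpos R T hT)
    · let j := T / (2 * c)
      have hj : j * (2 * c) ≤ T := Nat.div_mul_le_self T (2 * c)
      have hj' : T < (j + 1) * (2 * c) := by
        have := Nat.lt_div_mul_add (a := T) (show 0 < 2 * c by omega)
        simp only [j]
        linarith
      have hjc : 2 * (j * c) ≤ T := by linarith
      have hj1 : 1 ≤ j := (Nat.one_le_div_iff (by omega)).2 (by omega)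
      have ht0 : 0 < T - j * c := by omega
      have key : T ^ (n + 1) ≤ 4 * c * 2 ^ n * (j * (T - j * c) ^ n) := by
        have h1 : T ≤ 4 * c * j := by
          have : 2 * c ≤ 2 * c * j := Nat.le_mul_of_pos_right _ hj1
          linarith
        have h2 : T ^ n ≤ (2 * (T - j * c)) ^ n := Nat.pow_le_pow_left (by omega) n
        calc T ^ (n + 1) = T * T ^ n := pow_succ' T n
          _ ≤ 4 * c * j * (2 * (T - j * c)) ^ n := Nat.mul_le_mul h1 h2
          _ = 4 * c * 2 ^ n * (j * (T - j * c) ^ n) := by rw [mul_pow]; ring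
      calc ((T ^ (n + 1) : ℕ) : ℕ∞)
          ≤ ((4 * c * 2 ^ n : ℕ) : ℕ∞) * ((j : ℕ∞) * (((T - j * c) ^ n : ℕ) : ℕ∞)) := by
            rw [← Nat.cast_mul, ← Nat.cast_mul, Nat.cast_le]
            exact key
        _ ≤ ((4 * c * 2 ^ n : ℕ) : ℕ∞) * ((C : ℕ∞) * Module.length R (R ⧸ m ^ T)) := by
            refine mul_le_mul' le_rfl ((mul_le_mul' le_rfl (hC' _ ht0)).trans ?_)
            rw [← mul_assoc, mul_comm (j : ℕ∞), mul_assoc]
            refine mul_le_mul' le_rfl ?_
            have := iter j (T - j * c)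
            rwa [Nat.sub_add_cancel (by omega)] at this
        _ ≤ _ := by
            rw [← mul_assoc, ← Nat.cast_mul]
            exact mul_le_mul' (Nat.cast_le.2 (Nat.le_add_left _ _)) le_rfl

/-- Quotients by monomial ideals with a missing top monomial. -/
theorem length_pow_le_of_prod_mem {R : Type u} [CommRing R] {n : ℕ} (hn : 0 < n) (b : Fin n → R)
    {P : ℕ} (hP : 0 < P) (hprod : (∏ i, b i) ^ (P - 1) ∈ Ideal.span (Set.range fun i => b i ^ P)) :
    Module.length R (R ⧸ Ideal.span (Set.range fun i => b i ^ P)) ≤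
      ((P ^ n - 1 : ℕ) : ℕ∞) * Module.length R (R ⧸ Ideal.span (Set.range b)) := by
  classical
  set J := Ideal.span (Set.range fun i => b i ^ P) with hJ
  set L := Module.length R (R ⧸ Ideal.span (Set.range b))
  let mono : (Fin n → Fin P) → R := fun e => ∏ i, b i ^ (e i : ℕ)
  let top : Fin n → Fin P := fun _ => ⟨P - 1, by omega⟩
  have hmul : ∀ (e : Fin n → Fin P) (i : Fin n), b i * mono e ∈ J ∨
      ∃ e' : Fin n → Fin P, b i * mono e = mono e' ∧ e < e' := by
    intro e i
    have hupd : ∀ k : ℕ, ∏ l, b l ^ Function.update (fun l => (e l : ℕ)) i k l =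
        b i ^ k * ∏ l ∈ Finset.univ.erase i, b l ^ (e l : ℕ) := by
      intro k
      rw [← Finset.mul_prod_erase Finset.univ _ (Finset.mem_univ i), Function.update_self]
      congr 1
      exact Finset.prod_congr rfl fun l hl => by
        rw [Function.update_of_ne (Finset.ne_of_mem_erase hl)]
    have hsucc : b i * mono e = b i ^ ((e i : ℕ) + 1) * ∏ l ∈ Finset.univ.erase i, b l ^ (e l : ℕ) := by
      simp only [mono]
      rw [← Finset.mul_prod_erase Finset.univ _ (Finset.mem_univ i), pow_succ']
      ring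
    by_cases hlt : (e i : ℕ) + 1 < P
    · refine Or.inr ⟨Function.update e i ⟨(e i : ℕ) + 1, hlt⟩, ?_, ?_⟩
      · rw [hsucc, ← hupd]
        refine Finset.prod_congr rfl fun l _ => ?_
        by_cases hl : l = i
        · subst hl; simp
        · simp [Function.update_of_ne hl]
      · rw [lt_update_self_iff]
        exact Nat.lt_succ_self _
    · refine Or.inl ?_
      rw [hsucc, show (e i : ℕ) + 1 = P by omega]
      exact Ideal.mul_mem_right _ _ (Ideal.subset_span ⟨i, rfl⟩)
  have step : ∀ T : Finset (Fin n → Fin P),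
      (∀ e ∈ T, ∀ e', e < e' → e' ≠ top → e' ∈ T) →
      Module.length R (R ⧸ J) ≤ (T.card : ℕ∞) * L +
        Module.length R (R ⧸ (J ⊔ Ideal.span (mono '' (T : Set (Fin n → Fin P))))) := by
    intro T
    induction T using Finset.strongInduction with
    | _ T ih =>
      intro hup
      rcases T.eq_empty_or_nonempty with rfl | hne
      · exact le_trans (length_mono (by simp)) le_add_self
      obtain ⟨e, he, hmin⟩ := T.exists_minimal hne
      have hup' : ∀ a ∈ T.erase e, ∀ a', a < a' → a' ≠ top → a' ∈ T.erase e := by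
        intro a ha a' haa' htop'
        refine Finset.mem_erase.2 ⟨fun h => ?_, hup a (Finset.mem_of_mem_erase ha) a' haa' htop'⟩
        subst h
        exact (lt_irrefl a) (haa'.trans_le (hmin (Finset.mem_of_mem_erase ha) haa'.le))
      set K := J ⊔ Ideal.span (mono '' ((T.erase e : Finset _) : Set (Fin n → Fin P))) with hK
      set K' := J ⊔ Ideal.span (mono '' (T : Set (Fin n → Fin P))) with hK'
      have hKK' : K' = K ⊔ Ideal.span {mono e} := by
        rw [hK, hK', sup_assoc]
        congr 1
        rw [← Ideal.span_union, Set.union_singleton, ← Set.image_insert_eq,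
          ← Finset.coe_insert, Finset.insert_erase he]
      have hkill : ∀ i, b i * mono e ∈ K := fun i => by
        rcases hmul e i with h | ⟨e', he', hlt⟩
        · exact Ideal.mem_sup_left h
        · rw [he']
          by_cases htop' : e' = top
          · refine Ideal.mem_sup_left ?_
            subst htop'
            simp only [mono, top, Finset.prod_pow]
            exact hprod
          · exact Ideal.mem_sup_right (Ideal.subset_span
              ⟨e', Finset.mem_erase.2 ⟨hlt.ne', hup e he e' hlt htop'⟩, rfl⟩)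
      let μ : R →ₗ[R] R ⧸ K := Submodule.mkQ K ∘ₗ LinearMap.mulRight R (mono e)
      have hker : Ideal.span (Set.range b) ≤ LinearMap.ker μ := by
        rw [Ideal.span_le]
        rintro _ ⟨i, rfl⟩
        exact (Submodule.Quotient.mk_eq_zero K).2 (hkill i)
      have hμ : Module.length R (LinearMap.range μ) ≤ L := by
        rw [← μ.quotKerEquivRange.length_eq]
        exact length_mono hker
      have hle : K ≤ K' := hKK' ▸ le_sup_left
      have hex : Function.Exact (LinearMap.range μ).subtype (Submodule.factor hle) := by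
        rw [LinearMap.exact_iff, Submodule.range_subtype]
        ext q
        obtain ⟨q, rfl⟩ := Submodule.Quotient.mk_surjective _ q
        rw [LinearMap.mem_ker]
        show Submodule.Quotient.mk q = 0 ↔ _
        rw [Submodule.Quotient.mk_eq_zero, hKK', Submodule.mem_sup]
        constructor
        · rintro ⟨a, ha, c, hc, rfl⟩
          obtain ⟨z, rfl⟩ := Ideal.mem_span_singleton'.1 hc
          refine ⟨z, (Submodule.Quotient.eq _).2 ?_⟩
          show z * mono e - (a + z * mono e) ∈ _
          rw [sub_add_cancel_right]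
          exact neg_mem ha
        · rintro ⟨z, hz⟩
          have h4 : z * mono e - q ∈ K := (Submodule.Quotient.eq _).1 hz
          exact ⟨-(z * mono e - q), neg_mem h4, z * mono e,
            Ideal.mem_span_singleton'.2 ⟨z, rfl⟩, by ring⟩
      refine (ih (T.erase e) (Finset.erase_ssubset he) hup').trans ?_
      rw [← hK, Module.length_eq_add_of_exact (LinearMap.range μ).subtype (Submodule.factor hle)
        (Submodule.injective_subtype _) (Submodule.factor_surjective hle) hex]
      have hcard : T.card = (T.erase e).card + 1 := (Finset.card_erase_add_one he).symm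
      rw [hcard, Nat.cast_succ, add_mul, one_mul, add_assoc]
      exact add_le_add le_rfl (add_le_add hμ le_rfl)
  let T : Finset (Fin n → Fin P) := Finset.univ.erase top
  refine (step T fun e _ e' _ h => Finset.mem_erase.2 ⟨h, Finset.mem_univ _⟩).trans ?_
  have hcardT : T.card = P ^ n - 1 := by
    rw [Finset.card_erase_of_mem (Finset.mem_univ _), Finset.card_univ, Fintype.card_fun,
      Fintype.card_fin, Fintype.card_fin]
  have htopI : J ⊔ Ideal.span (mono '' (T : Set (Fin n → Fin P))) = ⊤ := by
    rw [Ideal.eq_top_iff_one]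
    let zero : Fin n → Fin P := fun _ => ⟨0, hP⟩
    have hz : mono zero = 1 := by simp [mono, zero]
    rcases eq_or_ne zero top with h | h
    · refine Ideal.mem_sup_left ?_
      have h0 : 0 = P - 1 := congrArg Fin.val (congrFun h ⟨0, hn⟩)
      rw [← h0, pow_zero] at hprod
      exact hprod
    · exact Ideal.mem_sup_right (hz ▸ Ideal.subset_span
        ⟨zero, Finset.mem_erase.2 ⟨h, Finset.mem_univ _⟩, rfl⟩)
  rw [htopI, hcardT]
  have : Subsingleton (R ⧸ (⊤ : Ideal R)) := Ideal.Quotient.subsingleton_iff.2 rfl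
  rw [Module.length_eq_zero, add_zero]

theorem length_ne_top_of_radical {R : Type u} [CommRing R] [IsNoetherianRing R] [IsLocalRing R]
    {I : Ideal R} (hI : I.radical = maximalIdeal R) : Module.length R (R ⧸ I) ≠ ⊤ := by
  have h0 : Ring.KrullDimLE 0 (R ⧸ I) := by
    rw [Ring.krullDimLE_zero_iff]
    intro P hP
    have hle : I ≤ P.comap (Ideal.Quotient.mk I) := fun a ha => by
      rw [Ideal.mem_comap, Ideal.Quotient.eq_zero_iff_mem.2 ha]
      exact zero_mem _
    have hp : (P.comap (Ideal.Quotient.mk I)).IsPrime := inferInstance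
    have heq : P.comap (Ideal.Quotient.mk I) = maximalIdeal R :=
      le_antisymm (IsLocalRing.le_maximalIdeal hp.ne_top) (hI ▸ hp.radical_le_iff.2 hle)
    rw [← Ideal.map_comap_of_surjective _ Ideal.Quotient.mk_surjective P, heq]
    exact isMaximal_map_maximalIdeal (hI ▸ Ideal.le_radical)
  have : IsArtinianRing (R ⧸ I) := isArtinianRing_iff_isNoetherianRing_krullDimLE_zero.2 ⟨inferInstance, h0⟩
  rw [Module.length_eq_of_surjective (S := R) (R := R ⧸ I) Ideal.Quotient.mk_surjective]
  exact Module.length_ne_top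

end Groth.Agent.SopLength
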